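import Cfsg.Agent.Lib.L34Cover.Model
import Cfsg.Prelude.Def_TwoFusion
import Mathlib.FieldTheory.Finite.GaloisField

/-!
# Groups with the Sylow 2-subgroup of `PSL(3, 4)`: coordinates

`Cfg S` is a system of coordinates on the Sylow subgroup `S`: a bijection `u` from `F4³` with
`u p * u q = u (p + q + (0, 0, p₂ q₁))`. The two elementary abelian subgroups of order 16 are
`A = {p₁ = 0}` and `B = {p₂ = 0}`; they meet in the centre `Z`.
-/

set_option autoImplicit false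

namespace Cfsg.Agent.Recog34

open SylL34

universe v

/-- Coordinates. -/
abbrev Tr := F4 × F4 × F4

/-- The multiplication of coordinates. -/
def pm (p q : Tr) : Tr := (p.1 + q.1, p.2.1 + q.2.1, p.2.2 + q.2.2 + p.2.1 * q.1)

theorem two_zero : (2 : F4) = 0 := by decide

theorem add_self (a : F4) : a + a = 0 := L34Cover.char_two a

theorem eq_of_add_eq_zero {a b : F4} (h : a + b = 0) : a = b := by
  linear_combination h - add_self b

/-- A generator of the multiplicative group. -/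
def om : F4 := ⟨false, true⟩

theorem f4_cases : ∀ a : F4, a = 0 ∨ a = 1 ∨ a = om ∨ a = 1 + om := by decide

theorem pow_three : ∀ a : F4, a ≠ 0 → a * a * a = 1 := by decide

variable {G : Type v} [Group G]

/-- Coordinates on a Sylow 2-subgroup isomorphic to that of `PSL(3, 4)`. -/
structure Cfg (S : Sylow 2 G) where
  /-- the coordinate map -/
  u : Tr → G
  inj : Function.Injective u
  mul : ∀ p q, u p * u q = u (pm p q)
  range_eq : Set.range u = ((S : Subgroup G) : Set G)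

namespace Cfg

variable {S : Sylow 2 G} (K : Cfg S)

theorem mul_def (a b c a' b' c' : F4) :
    K.u (a, b, c) * K.u (a', b', c') = K.u (a + a', b + b', c + c' + b * a') := K.mul _ _

theorem u_zero : K.u (0, 0, 0) = 1 := by
  have h := K.mul_def 0 0 0 0 0 0
  simp only [add_zero, mul_zero] at h
  exact mul_eq_left.mp h

theorem u_eq_one {p : Tr} : K.u p = 1 ↔ p = (0, 0, 0) := by
  rw [← K.u_zero, K.inj.eq_iff]

theorem u_inv (p : Tr) : (K.u p)⁻¹ = K.u (p.1, p.2.1, p.2.2 + p.2.1 * p.1) := by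
  refine inv_eq_of_mul_eq_one_right ?_
  rw [K.mul, ← K.u_zero]
  congr 1
  refine Prod.ext (add_self _) (Prod.ext (add_self _) ?_)
  show p.2.2 + (p.2.2 + p.2.1 * p.1) + p.2.1 * p.1 = 0
  linear_combination add_self (p.2.2 + p.2.1 * p.1)

theorem u_mem (p : Tr) : K.u p ∈ (S : Subgroup G) := by
  rw [← SetLike.mem_coe, ← K.range_eq]
  exact ⟨p, rfl⟩

include K in
theorem exists_u {x : G} (hx : x ∈ (S : Subgroup G)) : ∃ p, K.u p = x := by
  rw [← SetLike.mem_coe, ← K.range_eq] at hx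
  exact hx

theorem exists_u' {x : G} (hx : x ∈ (S : Subgroup G)) : ∃ a b c, K.u (a, b, c) = x := by
  obtain ⟨⟨a, b, c⟩, h⟩ := K.exists_u hx
  exact ⟨a, b, c, h⟩

theorem commute_iff (a b c a' b' c' : F4) :
    K.u (a, b, c) * K.u (a', b', c') = K.u (a', b', c') * K.u (a, b, c) ↔ b * a' = b' * a := by
  rw [K.mul_def, K.mul_def, K.inj.eq_iff, Prod.ext_iff, Prod.ext_iff, add_comm a' a, add_comm b' b,
    add_comm c' c]
  simp

theorem conj_u (a b c a' b' c' : F4) :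
    K.u (a, b, c) * K.u (a', b', c') * (K.u (a, b, c))⁻¹ = K.u (a', b', c' + b * a' + b' * a) := by
  rw [mul_inv_eq_iff_eq_mul, K.mul_def, K.mul_def]
  congr 1
  refine Prod.ext (add_comm _ _) (Prod.ext (add_comm _ _) ?_)
  linear_combination -add_self (b' * a)

theorem sq_iff (a b c : F4) : K.u (a, b, c) * K.u (a, b, c) = 1 ↔ b = 0 ∨ a = 0 := by
  rw [K.mul_def, K.u_eq_one, add_self, add_self, add_self, zero_add]
  simp

theorem sq_eq (a b c : F4) : K.u (a, b, c) * K.u (a, b, c) = K.u (0, 0, b * a) := by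
  rw [K.mul_def, add_self, add_self, add_self, zero_add]

/-- The first elementary abelian subgroup of order 16. -/
def A : Subgroup G where
  carrier := {g | ∃ b c, K.u (0, b, c) = g}
  one_mem' := ⟨0, 0, K.u_zero⟩
  mul_mem' := by
    rintro _ _ ⟨b, c, rfl⟩ ⟨b', c', rfl⟩
    exact ⟨b + b', c + c', by rw [K.mul_def]; simp⟩
  inv_mem' := by
    rintro _ ⟨b, c, rfl⟩
    exact ⟨b, c, by rw [K.u_inv]; simp⟩

/-- The second elementary abelian subgroup of order 16. -/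
def B : Subgroup G where
  carrier := {g | ∃ a c, K.u (a, 0, c) = g}
  one_mem' := ⟨0, 0, K.u_zero⟩
  mul_mem' := by
    rintro _ _ ⟨b, c, rfl⟩ ⟨b', c', rfl⟩
    exact ⟨b + b', c + c', by rw [K.mul_def]; simp⟩
  inv_mem' := by
    rintro _ ⟨b, c, rfl⟩
    exact ⟨b, c, by rw [K.u_inv]; simp⟩

/-- The centre of `S`. -/
def Z : Subgroup G where
  carrier := {g | ∃ c, K.u (0, 0, c) = g}
  one_mem' := ⟨0, K.u_zero⟩
  mul_mem' := by
    rintro _ _ ⟨c, rfl⟩ ⟨c', rfl⟩
    exact ⟨c + c', by rw [K.mul_def]; simp⟩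
  inv_mem' := by
    rintro _ ⟨c, rfl⟩
    exact ⟨c, by rw [K.u_inv]; simp⟩

/-- The complement `{u (a, 0, 0)}` of `A`. -/
def V : Subgroup G where
  carrier := {g | ∃ a, K.u (a, 0, 0) = g}
  one_mem' := ⟨0, K.u_zero⟩
  mul_mem' := by
    rintro _ _ ⟨c, rfl⟩ ⟨c', rfl⟩
    exact ⟨c + c', by rw [K.mul_def]; simp⟩
  inv_mem' := by
    rintro _ ⟨c, rfl⟩
    exact ⟨c, by rw [K.u_inv]; simp⟩

theorem mem_A {p : Tr} : K.u p ∈ K.A ↔ p.1 = 0 := by
  refine ⟨fun ⟨b, c, h⟩ => ?_, fun h => ⟨p.2.1, p.2.2, by rw [← h]⟩⟩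
  rw [← K.inj h]

theorem mem_B {p : Tr} : K.u p ∈ K.B ↔ p.2.1 = 0 := by
  refine ⟨fun ⟨b, c, h⟩ => ?_, fun h => ⟨p.1, p.2.2, by rw [← h]⟩⟩
  rw [← K.inj h]

theorem mem_Z {p : Tr} : K.u p ∈ K.Z ↔ p.1 = 0 ∧ p.2.1 = 0 := by
  refine ⟨fun ⟨c, h⟩ => ?_, fun h => ⟨p.2.2, congrArg K.u (Prod.ext h.1.symm (Prod.ext h.2.symm rfl))⟩⟩
  rw [← K.inj h]
  exact ⟨rfl, rfl⟩

theorem A_le : K.A ≤ (S : Subgroup G) := by rintro _ ⟨b, c, rfl⟩; exact K.u_mem _
theorem B_le : K.B ≤ (S : Subgroup G) := by rintro _ ⟨b, c, rfl⟩; exact K.u_mem _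
theorem Z_le_A : K.Z ≤ K.A := by rintro _ ⟨c, rfl⟩; exact ⟨0, c, rfl⟩
theorem Z_le_B : K.Z ≤ K.B := by rintro _ ⟨c, rfl⟩; exact ⟨0, c, rfl⟩
theorem Z_le : K.Z ≤ (S : Subgroup G) := K.Z_le_A.trans K.A_le
theorem V_le_B : K.V ≤ K.B := by rintro _ ⟨a, rfl⟩; exact ⟨a, 0, rfl⟩

theorem inf_eq : K.A ⊓ K.B = K.Z := by
  refine le_antisymm ?_ (le_inf K.Z_le_A K.Z_le_B)
  rintro _ ⟨⟨b, c, rfl⟩, hB⟩
  obtain rfl : b = 0 := K.mem_B.1 hB
  exact ⟨c, rfl⟩

theorem A_comm {x y : G} (hx : x ∈ K.A) (hy : y ∈ K.A) : x * y = y * x := by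
  obtain ⟨b, c, rfl⟩ := hx
  obtain ⟨b', c', rfl⟩ := hy
  simp [K.commute_iff]

theorem A_sq {x : G} (hx : x ∈ K.A) : x * x = 1 := by
  obtain ⟨b, c, rfl⟩ := hx
  simp [K.sq_iff]

theorem B_comm {x y : G} (hx : x ∈ K.B) (hy : y ∈ K.B) : x * y = y * x := by
  obtain ⟨b, c, rfl⟩ := hx
  obtain ⟨b', c', rfl⟩ := hy
  simp [K.commute_iff]

theorem B_sq {x : G} (hx : x ∈ K.B) : x * x = 1 := by
  obtain ⟨b, c, rfl⟩ := hx
  simp [K.sq_iff]

theorem Z_central {z x : G} (hz : z ∈ K.Z) (hx : x ∈ (S : Subgroup G)) : x * z = z * x := by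
  obtain ⟨c, rfl⟩ := hz
  obtain ⟨a, b, c', rfl⟩ := K.exists_u' hx
  simp [K.commute_iff]

theorem Z_eq_of_central {x : G} (hx : x ∈ (S : Subgroup G))
    (h : ∀ y ∈ (S : Subgroup G), x * y = y * x) : x ∈ K.Z := by
  obtain ⟨a, b, c, rfl⟩ := K.exists_u' hx
  have h1 := (K.commute_iff a b c 1 0 0).1 (h _ (K.u_mem _))
  have h2 := (K.commute_iff a b c 0 1 0).1 (h _ (K.u_mem _))
  simp at h1 h2
  exact K.mem_Z.2 ⟨h2.symm, h1⟩

theorem S_le_normalizer_A : (S : Subgroup G) ≤ Subgroup.normalizer (K.A : Set G) := by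
  intro x hx
  have key : ∀ x ∈ (S : Subgroup G), ∀ y ∈ K.A, x * y * x⁻¹ ∈ K.A := by
    intro x hx y hy
    obtain ⟨a, b, c, rfl⟩ := K.exists_u' hx
    obtain ⟨b', c', rfl⟩ := hy
    rw [K.conj_u]
    exact ⟨_, _, rfl⟩
  exact Subgroup.mem_normalizer_iff.2 fun y => ⟨key x hx y, fun h => by
    simpa [mul_assoc] using key x⁻¹ (inv_mem hx) _ h⟩

theorem involution_cases {x : G} (hx : x ∈ (S : Subgroup G)) (h : x * x = 1) :
    x ∈ K.A ∨ x ∈ K.B := by
  obtain ⟨a, b, c, rfl⟩ := K.exists_u' hx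
  rcases (K.sq_iff _ _ _).1 h with h | h
  · exact Or.inr (K.mem_B.2 h)
  · exact Or.inl (K.mem_A.2 h)

theorem card_A : Nat.card K.A = 16 := by
  have e : ↥K.A ≃ F4 × F4 := (Equiv.ofBijective (fun p : F4 × F4 =>
    (⟨K.u (0, p.1, p.2), p.1, p.2, rfl⟩ : K.A)) ⟨fun p q h => by
      have := K.inj (congrArg Subtype.val h); simpa [Prod.ext_iff] using this,
      fun ⟨_, b, c, h⟩ => ⟨(b, c), Subtype.ext h⟩⟩).symm
  rw [Nat.card_congr e, Nat.card_prod, Nat.card_eq_fintype_card, card_F4]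

theorem card_Z : Nat.card K.Z = 4 := by
  have e : ↥K.Z ≃ F4 := (Equiv.ofBijective (fun c : F4 =>
    (⟨K.u (0, 0, c), c, rfl⟩ : K.Z)) ⟨fun p q h => by
      have := K.inj (congrArg Subtype.val h); simpa [Prod.ext_iff] using this,
      fun ⟨_, c, h⟩ => ⟨c, Subtype.ext h⟩⟩).symm
  rw [Nat.card_congr e, Nat.card_eq_fintype_card, card_F4]

include K in
theorem card_S : Nat.card (S : Subgroup G) = 64 := by
  have e : ↥(S : Subgroup G) ≃ Tr := (Equiv.ofBijective (fun p : Tr =>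
    (⟨K.u p, K.u_mem p⟩ : (S : Subgroup G))) ⟨fun p q h => K.inj (congrArg Subtype.val h),
      fun ⟨x, h⟩ => by obtain ⟨p, hp⟩ := K.exists_u h; exact ⟨p, Subtype.ext hp⟩⟩).symm
  rw [Nat.card_congr e, Nat.card_prod, Nat.card_prod, Nat.card_eq_fintype_card, card_F4]

/-- An elementary abelian subgroup of order 16 of `S` is `A` or `B`. -/
theorem classify (E : Subgroup G) (hE : E ≤ (S : Subgroup G)) (hsq : ∀ x ∈ E, x * x = 1)
    (hc : Nat.card E = 16) [Finite G] : E = K.A ∨ E = K.B := by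
  have key : E ≤ K.A ∨ E ≤ K.B := by
    by_contra h
    push Not at h
    obtain ⟨x, hx, hxA⟩ := SetLike.not_le_iff_exists.1 h.1
    obtain ⟨y, hy, hyB⟩ := SetLike.not_le_iff_exists.1 h.2
    have hxB := (K.involution_cases (hE hx) (hsq x hx)).resolve_left hxA
    have hyA := (K.involution_cases (hE hy) (hsq y hy)).resolve_right hyB
    rcases K.involution_cases (hE (mul_mem hx hy)) (hsq _ (mul_mem hx hy)) with e | e
    · exact hxA (by simpa using mul_mem e (inv_mem hyA))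
    · exact hyB (by simpa using mul_mem (inv_mem hxB) e)
  have hB16 : Nat.card K.B = 16 := by
    have e : ↥K.B ≃ F4 × F4 := (Equiv.ofBijective (fun p : F4 × F4 =>
      (⟨K.u (p.1, 0, p.2), p.1, p.2, rfl⟩ : K.B)) ⟨fun p q h => by
        have := K.inj (congrArg Subtype.val h); simpa [Prod.ext_iff] using this,
        fun ⟨_, b, c, h⟩ => ⟨(b, c), Subtype.ext h⟩⟩).symm
    rw [Nat.card_congr e, Nat.card_prod, Nat.card_eq_fintype_card, card_F4]
  rcases key with e | e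
  · exact Or.inl (Subgroup.eq_of_le_of_card_ge e (by rw [hc, K.card_A]))
  · exact Or.inr (Subgroup.eq_of_le_of_card_ge e (by rw [hc, hB16]))

/-- The coordinates with the roles of `A` and `B` exchanged. -/
def swap : Cfg S where
  u p := K.u (p.2.1, p.1, p.2.2 + p.2.1 * p.1)
  inj p q h := by
    have h := K.inj h
    simp only [Prod.ext_iff] at h
    obtain ⟨h1, h2, h3⟩ := h
    refine Prod.ext h2 (Prod.ext h1 ?_)
    rw [h1, h2] at h3
    exact add_right_cancel h3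
  mul p q := by
    rw [K.mul]
    congr 1
    refine Prod.ext rfl (Prod.ext rfl ?_)
    show p.2.2 + p.2.1 * p.1 + (q.2.2 + q.2.1 * q.1) + p.1 * q.2.1 =
      p.2.2 + q.2.2 + p.2.1 * q.1 + (p.2.1 + q.2.1) * (p.1 + q.1)
    linear_combination -add_self (p.2.1 * q.1)
  range_eq := by
    refine subset_antisymm ?_ fun x hx => ?_
    · rintro _ ⟨p, rfl⟩
      exact K.u_mem _
    · obtain ⟨a, b, c, rfl⟩ := K.exists_u' hx
      refine ⟨(b, a, c + a * b), ?_⟩
      show K.u (a, b, c + a * b + a * b) = K.u (a, b, c)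
      rw [show c + a * b + a * b = c by linear_combination add_self (a * b)]

theorem swap_A : K.swap.A = K.B := by
  ext x
  constructor
  · rintro ⟨b, c, rfl⟩
    exact ⟨b, c + b * 0, rfl⟩
  · rintro ⟨a, c, rfl⟩
    refine ⟨a, c, ?_⟩
    show K.u (a, 0, c + a * 0) = _
    rw [mul_zero, add_zero]

theorem swap_B : K.swap.B = K.A := by
  ext x
  constructor
  · rintro ⟨a, c, rfl⟩
    exact ⟨a, c + 0 * a, rfl⟩
  · rintro ⟨b, c, rfl⟩
    refine ⟨b, c, ?_⟩
    show K.u (0, b, c + 0 * b) = _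
    rw [zero_mul, add_zero]

theorem swap_Z : K.swap.Z = K.Z := by
  rw [← inf_eq, swap_A, swap_B, inf_comm, inf_eq]

theorem card_B : Nat.card K.B = 16 := by rw [← swap_A, card_A]

theorem S_le_normalizer_B : (S : Subgroup G) ≤ Subgroup.normalizer (K.B : Set G) :=
  K.swap_A ▸ K.swap.S_le_normalizer_A

end Cfg

/-- The hypothesis on the Sylow subgroup gives coordinates. -/
theorem exists_cfg {F : Type*} [Field F] [Fintype F] (hF : Fintype.card F = 4) [Finite G]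
    (S : Sylow 2 G) (P : Sylow 2 (Matrix.ProjectiveSpecialLinearGroup (Fin 3) F))
    (hS : Nonempty (↥(S : Subgroup G) ≃* ↥(P : Subgroup (Matrix.ProjectiveSpecialLinearGroup (Fin 3) F)))) :
    Nonempty (Cfg S) := by
  obtain ⟨e⟩ := hS
  have : Fact (Nat.Prime 2) := ⟨Nat.prime_two⟩
  let σ : F4 ≃+* F := FiniteField.ringEquivOfCardEq (by rw [hF, card_F4])
  let η : L34Cover.S3 ≃* Matrix.SpecialLinearGroup (Fin 3) F :=
    { toFun := Matrix.SpecialLinearGroup.map σ.toRingHom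
      invFun := Matrix.SpecialLinearGroup.map σ.symm.toRingHom
      left_inv := fun g => by ext i j; exact σ.symm_apply_apply _
      right_inv := fun g => by ext i j; exact σ.apply_symm_apply _
      map_mul' := map_mul _ }
  let η' : L34Cover.G ≃* Matrix.ProjectiveSpecialLinearGroup (Fin 3) F :=
    QuotientGroup.congr _ _ η (L34Cover.map_center η)
  obtain ⟨S₀, hS₀⟩ := L34Cover.exists_sylow
  obtain ⟨Q, hQ⟩ : ∃ Q : Sylow 2 (Matrix.ProjectiveSpecialLinearGroup (Fin 3) F),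
      (Q : Subgroup (Matrix.ProjectiveSpecialLinearGroup (Fin 3) F)) = L34Cover.U.map η'.toMonoidHom :=
    ⟨S₀.mapSurjective (f := η'.toMonoidHom) η'.surjective,
      (Sylow.coe_mapSurjective _ _).trans (by rw [hS₀])⟩
  let j : ↥(P : Subgroup (Matrix.ProjectiveSpecialLinearGroup (Fin 3) F)) ≃*
      ↥(Q : Subgroup (Matrix.ProjectiveSpecialLinearGroup (Fin 3) F)) := P.equiv Q
  let k : ↥L34Cover.U ≃* ↥(S : Subgroup G) :=
    ((L34Cover.U.equivMapOfInjective η'.toMonoidHom η'.injective).trans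
      (MulEquiv.subgroupCongr hQ.symm)).trans (j.symm.trans e.symm)
  refine ⟨⟨fun p => k ⟨L34Cover.u p, p, rfl⟩, fun p q h => ?_, fun p q => ?_, ?_⟩⟩
  · exact L34Cover.u_injective (congrArg Subtype.val (k.injective (Subtype.ext h)))
  · rw [← Subgroup.coe_mul, ← map_mul]
    exact congrArg (fun x => ((k x : ↥(S : Subgroup G)) : G)) (Subtype.ext (L34Cover.u_mul p q))
  · refine subset_antisymm ?_ fun x hx => ?_
    · rintro _ ⟨p, rfl⟩
      exact (k _).2
    · obtain ⟨⟨_, p, rfl⟩, hp⟩ := k.surjective ⟨x, hx⟩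
      exact ⟨p, congrArg Subtype.val hp⟩

end Cfsg.Agent.Recog34
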