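import Cfsg.Agent.Lib.Recog34.Config
import Cfsg.Agent.Lib.Transfer.Fusion
import Cfsg.Agent.Lib.Transfer.WeaklyClosed
import Cfsg.Agent.Lib.Coprime.Basic

/-!
# The normaliser of the Sylow subgroup and the fusion of involutions

An element of `N(S)` multiplies the coordinates `a`, `b` by scalars `la`, `mu` (`Cfg.Act`). The two
subgroups `A`, `B` are weakly closed and not conjugate; `A` is *essential* (`Cfg.Ess`) if an
involution of `A` outside the centre is conjugate to a central one.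
-/

set_option autoImplicit false
set_option linter.unusedSectionVars false
set_option linter.style.haveILetI false

namespace Cfsg.Agent.Recog34

open SylL34 Subgroup

universe v

/-- An additive multiplicative map of `F4` is the identity or the square map. -/
theorem mul_hom_cases (σ : F4 → F4) (hadd : ∀ x y, σ (x + y) = σ x + σ y)
    (hmul : ∀ x y, σ (x * y) = σ x * σ y) (h1 : σ 1 = 1) :
    (∀ x, σ x = x) ∨ ∀ x, σ x = x * x := by
  have h0 : σ 0 = 0 := by
    have := hadd 0 0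
    rw [add_zero] at this
    exact add_eq_left.mp this.symm
  have key : ∀ s : F4, s * s = 1 + s → s = om ∨ s = om * om := by decide
  have hw : σ om * σ om = 1 + σ om := by
    rw [← hmul, show om * om = 1 + om by decide, hadd, h1]
  rcases key _ hw with h | h
  · left
    intro x
    rcases f4_cases x with rfl | rfl | rfl | rfl
    · exact h0
    · exact h1
    · exact h
    · rw [hadd, h1, h]
  · right
    intro x
    rcases f4_cases x with rfl | rfl | rfl | rfl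
    · rw [h0, mul_zero]
    · rw [h1, mul_one]
    · exact h
    · rw [hadd, h1, h]; decide

variable {G : Type v} [Group G] {S : Sylow 2 G} (K : Cfg S)

theorem diag_of_prod : ∀ la mu : F4, la ≠ 0 → mu ≠ 0 → la * mu ≠ 1 → la ≠ 1 → mu ≠ 1 → la = mu := by
  decide

theorem axis_of_shift : ∀ la mu x : F4, la ≠ 0 → mu ≠ 0 → x ≠ 0 → x ≠ 1 → la ≠ mu → la ≠ 1 → mu ≠ 1 →
    (la * x = 1 ∧ mu * x ≠ 1) ∨ (la * x * x = 1 ∧ mu * x * x ≠ 1) := by decide

theorem eq_zero_of_eq : ∀ x y : F4, y = x ∨ y = x * x → y = 0 → x = 0 := by decide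

theorem sq_twist : ∀ l x : F4, l * (x * x) * (l * (x * x)) = l * l * x := by decide

theorem exists_mul_mem_normalizer_sylow [Finite G] (D : Subgroup G) (hSD : (S : Subgroup G) ≤ D) (g : G)
    (hg : ∀ x ∈ (S : Subgroup G), g * x * g⁻¹ ∈ D) :
    ∃ d ∈ D, d * g ∈ normalizer ((S : Subgroup G) : Set G) := by
  haveI : Fact (Nat.Prime 2) := ⟨Nat.prime_two⟩
  have hgS : ((g • S : Sylow 2 G) : Subgroup G) ≤ D := by
    rintro _ ⟨x, hx, rfl⟩
    exact hg x hx
  obtain ⟨d, hd⟩ := MulAction.exists_smul_eq D ((g • S).subtype hgS) (S.subtype hSD)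
  refine ⟨d, d.2, Sylow.smul_eq_iff_mem_normalizer.mp ?_⟩
  rw [mul_smul]
  have := congrArg (fun T : Sylow 2 D => (T : Subgroup D).map D.subtype) hd
  refine Sylow.ext ?_
  simp only [Sylow.coe_subtype, Subgroup.map_subgroupOf_eq_of_le hSD] at this
  rw [← this]
  ext y
  constructor
  · rintro ⟨x, hx, rfl⟩
    exact ⟨d * ⟨x, hgS hx⟩ * d⁻¹, ⟨⟨x, hgS hx⟩, hx, rfl⟩, rfl⟩
  · rintro ⟨_, ⟨x, hx, rfl⟩, rfl⟩
    exact ⟨(x : G), hx, rfl⟩

namespace Cfg

/-- `g` normalises `A` and `B`. -/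
def Pres (g : G) : Prop :=
  (∀ x ∈ K.A, g * x * g⁻¹ ∈ K.A) ∧ ∀ x ∈ K.B, g * x * g⁻¹ ∈ K.B

/-- `g` multiplies the coordinates `a`, `b` by `la`, `mu`. -/
def Act (g : G) (la mu : F4) : Prop :=
  la ≠ 0 ∧ mu ≠ 0 ∧ ∀ a b c, ∃ d, g * K.u (a, b, c) * g⁻¹ = K.u (la * a, mu * b, d)

theorem commutator_u (a b : F4) :
    K.u (0, b, 0) * K.u (a, 0, 0) * (K.u (0, b, 0))⁻¹ * (K.u (a, 0, 0))⁻¹ = K.u (0, 0, b * a) := by
  rw [K.conj_u, K.u_inv, K.mul_def]
  congr 1
  refine Prod.ext (add_self a) (Prod.ext (add_self 0) ?_)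
  simp

variable {K}

theorem Act.conj_Z {g : G} {la mu : F4} (h : K.Act g la mu) (c : F4) :
    g * K.u (0, 0, c) * g⁻¹ = K.u (0, 0, la * mu * c) := by
  obtain ⟨d, hd⟩ := h.2.2 c 0 0
  obtain ⟨e, he⟩ := h.2.2 0 1 0
  have h1 : K.u (0, 0, c) = K.u (0, 1, 0) * K.u (c, 0, 0) * (K.u (0, 1, 0))⁻¹ * (K.u (c, 0, 0))⁻¹ := by
    rw [K.commutator_u, one_mul]
  simp only [mul_zero] at hd
  simp only [mul_zero, mul_one] at he
  calc g * K.u (0, 0, c) * g⁻¹
      = (g * K.u (0, 1, 0) * g⁻¹) * (g * K.u (c, 0, 0) * g⁻¹) * (g * K.u (0, 1, 0) * g⁻¹)⁻¹ *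
          (g * K.u (c, 0, 0) * g⁻¹)⁻¹ := by rw [h1]; group
    _ = K.u (0, 0, la * mu * c) := by
      rw [hd, he, K.conj_u, K.u_inv, K.mul_def]
      congr 1
      refine Prod.ext (add_self _) (Prod.ext (add_self _) ?_)
      simp only [mul_zero, zero_mul, add_zero]
      linear_combination add_self d

theorem Act.unique {g : G} {la mu la' mu' : F4} (h : K.Act g la mu) (h' : K.Act g la' mu') :
    la = la' ∧ mu = mu' := by
  obtain ⟨d, hd⟩ := h.2.2 1 1 0
  obtain ⟨d', hd'⟩ := h'.2.2 1 1 0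
  rw [hd] at hd'
  have := K.inj hd'
  simp [Prod.ext_iff] at this
  exact ⟨this.1, this.2.1⟩

theorem Act.mul {g g' : G} {la mu la' mu' : F4} (h : K.Act g la mu) (h' : K.Act g' la' mu') :
    K.Act (g * g') (la * la') (mu * mu') := by
  refine ⟨mul_ne_zero h.1 h'.1, mul_ne_zero h.2.1 h'.2.1, fun a b c => ?_⟩
  obtain ⟨d, hd⟩ := h'.2.2 a b c
  obtain ⟨e, he⟩ := h.2.2 (la' * a) (mu' * b) d
  refine ⟨e, ?_⟩
  rw [mul_assoc la, mul_assoc mu, ← he, ← hd]
  group

theorem Act.swap {g : G} {la mu : F4} (h : K.Act g la mu) : K.swap.Act g mu la := by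
  refine ⟨h.2.1, h.1, fun a b c => ?_⟩
  obtain ⟨d, hd⟩ := h.2.2 b a (c + b * a)
  refine ⟨d + la * b * (mu * a), ?_⟩
  show g * K.u (b, a, c + b * a) * g⁻¹ = K.u (la * b, mu * a, d + la * b * (mu * a) + la * b * (mu * a))
  rw [hd, add_assoc, add_self, add_zero]

variable (K)

theorem act_of_mem {x : G} (hx : x ∈ (S : Subgroup G)) : K.Act x 1 1 := by
  refine ⟨one_ne_zero, one_ne_zero, fun a b c => ?_⟩
  obtain ⟨a', b', c', rfl⟩ := K.exists_u' hx
  exact ⟨_, by rw [one_mul, one_mul]; exact K.conj_u _ _ _ _ _ _⟩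

theorem act_one : K.Act 1 1 1 := K.act_of_mem (one_mem _)

theorem exists_act_of_conj {g : G} (hP : K.Pres g) :
    ∃ la mu : F4, ∃ σ : F4 → F4, la ≠ 0 ∧ mu ≠ 0 ∧ ((∀ x, σ x = x) ∨ ∀ x, σ x = x * x) ∧
      ∀ a b c, ∃ d, g * K.u (a, b, c) * g⁻¹ = K.u (la * σ a, mu * σ b, d) := by
  have hB : ∀ a, ∃ a' c', g * K.u (a, 0, 0) * g⁻¹ = K.u (a', 0, c') := fun a => by
    obtain ⟨a', c', h'⟩ := hP.2 _ ⟨a, 0, rfl⟩
    exact ⟨a', c', h'.symm⟩
  have hA : ∀ b, ∃ b' c', g * K.u (0, b, 0) * g⁻¹ = K.u (0, b', c') := fun b => by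
    obtain ⟨b', c', h'⟩ := hP.1 _ ⟨b, 0, rfl⟩
    exact ⟨b', c', h'.symm⟩
  have hZ : ∀ c, ∃ c', g * K.u (0, 0, c) * g⁻¹ = K.u (0, 0, c') := fun c => by
    obtain ⟨a', c', h'⟩ := hP.2 _ ⟨0, c, rfl⟩
    obtain ⟨b', c'', h''⟩ := hP.1 _ ⟨0, c, rfl⟩
    have he := K.inj (h'.trans h''.symm)
    simp [Prod.ext_iff] at he
    exact ⟨c', by rw [← h', he.1]⟩
  choose α fa hα using hB
  choose β fb hβ using hA
  choose γ hγ using hZ
  have hcb : ∀ a b, γ (b * a) = β b * α a := fun a b => by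
    have h1 : K.u (0, 0, γ (b * a)) = K.u (0, 0, β b * α a) := by
      rw [← hγ, ← K.commutator_u]
      calc g * (K.u (0, b, 0) * K.u (a, 0, 0) * (K.u (0, b, 0))⁻¹ * (K.u (a, 0, 0))⁻¹) * g⁻¹
          = (g * K.u (0, b, 0) * g⁻¹) * (g * K.u (a, 0, 0) * g⁻¹) * (g * K.u (0, b, 0) * g⁻¹)⁻¹ *
              (g * K.u (a, 0, 0) * g⁻¹)⁻¹ := by group
        _ = _ := by
          rw [hα, hβ, K.conj_u, K.u_inv, K.mul_def]
          congr 1
          refine Prod.ext (add_self _) (Prod.ext (add_self _) ?_)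
          simp only [mul_zero, zero_mul, add_zero]
          linear_combination add_self (fa a)
    simpa [Prod.ext_iff] using K.inj h1
  have hαadd : ∀ x y, α (x + y) = α x + α y := fun x y => by
    have h1 : g * K.u (x + y, 0, 0) * g⁻¹ =
        (g * K.u (x, 0, 0) * g⁻¹) * (g * K.u (y, 0, 0) * g⁻¹) := by
      rw [show K.u (x + y, 0, 0) = K.u (x, 0, 0) * K.u (y, 0, 0) by rw [K.mul_def]; simp]
      group
    rw [hα, hα, hα, K.mul_def] at h1
    have := K.inj h1
    simp [Prod.ext_iff] at this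
    exact this.1
  have hα0 : ∀ x, α x = 0 → x = 0 := fun x hx => by
    by_contra hne
    have h1 := hcb x 1
    rw [hx, mul_zero, one_mul] at h1
    have h2 := hγ x
    rw [h1, K.u_zero] at h2
    exact hne (by simpa using (K.u_eq_one.1 (conj_eq_one_iff.1 h2)))
  have hla : α 1 ≠ 0 := fun h => (one_ne_zero : (1 : F4) ≠ 0) (hα0 1 h)
  have hmu : β 1 ≠ 0 := fun h => by
    have h1 := hcb 1 1
    rw [h, zero_mul, one_mul] at h1
    have h2 := hγ 1
    rw [h1, K.u_zero] at h2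
    exact (one_ne_zero : (1 : F4) ≠ 0) (by simpa using (K.u_eq_one.1 (conj_eq_one_iff.1 h2)))
  have hβ' : ∀ b, β b * α 1 = β 1 * α b := fun b => by
    rw [← hcb, ← hcb, mul_one, one_mul]
  let σ : F4 → F4 := fun x => α x / α 1
  have hβσ : ∀ b, β b = β 1 * σ b := fun b => by
    simp only [σ]
    rw [mul_div_assoc', eq_div_iff hla]
    exact hβ' b
  have hασ : ∀ a, α a = α 1 * σ a := fun a => (mul_div_cancel₀ _ hla).symm
  have hmul : ∀ x y, σ (x * y) = σ x * σ y := fun x y => by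
    have h1 : β (x * y) * α 1 = β x * α y := by rw [← hcb, ← hcb, mul_one]
    rw [hβσ, hβσ x, hασ y] at h1
    exact mul_left_cancel₀ (mul_ne_zero hmu hla) (by linear_combination h1)
  refine ⟨α 1, β 1, σ, hla, hmu,
    mul_hom_cases σ (fun x y => by simp only [σ]; rw [hαadd, add_div]) hmul (div_self hla), ?_⟩
  intro a b c
  have h1 : K.u (a, b, c) = K.u (a, 0, 0) * K.u (0, b, 0) * K.u (0, 0, c) := by
    rw [K.mul_def, K.mul_def]; simp
  have h2 : g * K.u (a, b, c) * g⁻¹ = (g * K.u (a, 0, 0) * g⁻¹) * (g * K.u (0, b, 0) * g⁻¹) *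
      (g * K.u (0, 0, c) * g⁻¹) := by rw [h1]; group
  rw [h2, hα, hβ, hγ, K.mul_def, K.mul_def, hασ a, hβσ b]
  exact ⟨_, congrArg K.u (Prod.ext (by simp) (Prod.ext (by simp) rfl))⟩

variable [Finite G]

theorem conj_E_cases {g : G} (h : ∀ x ∈ (S : Subgroup G), g * x * g⁻¹ ∈ (S : Subgroup G))
    (E : Subgroup G) (hE : E = K.A ∨ E = K.B) :
    E.map (MulAut.conj g).toMonoidHom = K.A ∨ E.map (MulAut.conj g).toMonoidHom = K.B := by
  refine K.classify _ ?_ ?_ ?_
  · rintro _ ⟨x, hx, rfl⟩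
    refine h x ?_
    rcases hE with rfl | rfl
    exacts [K.A_le hx, K.B_le hx]
  · rintro _ ⟨x, hx, rfl⟩
    rw [← map_mul, show x * x = 1 by rcases hE with rfl | rfl; exacts [K.A_sq hx, K.B_sq hx], map_one]
  · rw [card_map_of_injective (MulAut.conj g).injective]
    rcases hE with rfl | rfl
    exacts [K.card_A, K.card_B]

theorem A_ne_B : K.A ≠ K.B := fun h => by
  have : K.u (0, 1, 0) ∈ K.B := h ▸ K.mem_A.2 rfl
  exact one_ne_zero (K.mem_B.1 this)

theorem index_pow_mem {g : G} (hg : g ∈ normalizer ((S : Subgroup G) : Set G)) :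
    ∃ m, Odd m ∧ g ^ m ∈ (S : Subgroup G) := by
  haveI : Fact (Nat.Prime 2) := ⟨Nat.prime_two⟩
  refine ⟨((S : Subgroup G).subgroupOf (normalizer ((S : Subgroup G) : Set G))).index, ?_, ?_⟩
  · refine Nat.not_even_iff_odd.1 fun he => (S.not_dvd_index) ?_
    exact (even_iff_two_dvd.1 he).trans (relIndex_dvd_index_of_le le_normalizer)
  · have := ((S : Subgroup G).subgroupOf (normalizer ((S : Subgroup G) : Set G))).pow_index_mem
      ⟨g, hg⟩
    exact this

theorem conj_mem_of_normalizer {g : G} (hg : g ∈ normalizer ((S : Subgroup G) : Set G)) :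
    ∀ x ∈ (S : Subgroup G), g * x * g⁻¹ ∈ (S : Subgroup G) :=
  fun x hx => (mem_normalizer_iff.1 hg x).1 hx

theorem pres_of_mem {x : G} (hx : x ∈ (S : Subgroup G)) : K.Pres x :=
  ⟨fun _ h => (mem_normalizer_iff.1 (K.S_le_normalizer_A hx) _).1 h,
    fun _ h => (mem_normalizer_iff.1 (K.S_le_normalizer_B hx) _).1 h⟩

theorem Pres.mul {g g' : G} (h : K.Pres g) (h' : K.Pres g') : K.Pres (g * g') := by
  refine ⟨fun x hx => ?_, fun x hx => ?_⟩
  · rw [show g * g' * x * (g * g')⁻¹ = g * (g' * x * g'⁻¹) * g⁻¹ by group]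
    exact h.1 _ (h'.1 x hx)
  · rw [show g * g' * x * (g * g')⁻¹ = g * (g' * x * g'⁻¹) * g⁻¹ by group]
    exact h.2 _ (h'.2 x hx)

theorem pres_sq {g : G} (h : ∀ x ∈ (S : Subgroup G), g * x * g⁻¹ ∈ (S : Subgroup G)) :
    K.Pres (g * g) := by
  set f := (MulAut.conj g).toMonoidHom with hf
  have hinj : Function.Injective (Subgroup.map f) :=
    Subgroup.map_injective (f := f) (MulAut.conj g).injective
  have h2 : ∀ E, E = K.A ∨ E = K.B → (E.map f).map f = E := by
    intro E hE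
    rcases K.conj_E_cases h K.A (Or.inl rfl) with hA | hA <;>
      rcases K.conj_E_cases h K.B (Or.inr rfl) with hB | hB
    · exact absurd (hinj (hA.trans hB.symm)) K.A_ne_B
    · rcases hE with rfl | rfl
      · rw [hA, hA]
      · rw [hB, hB]
    · rcases hE with rfl | rfl
      · rw [hA, hB]
      · rw [hB, hA]
    · exact absurd (hinj (hA.trans hB.symm)) K.A_ne_B
  have key : ∀ E, E = K.A ∨ E = K.B → ∀ x ∈ E, g * g * x * (g * g)⁻¹ ∈ E := by
    intro E hE x hx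
    rw [← h2 E hE]
    refine ⟨g * x * g⁻¹, ⟨x, hx, rfl⟩, ?_⟩
    show g * (g * x * g⁻¹) * g⁻¹ = _
    group
  exact ⟨key _ (Or.inl rfl), key _ (Or.inr rfl)⟩

/-- An element of `N(S)` normalises `A` and `B`. -/
theorem pres {g : G} (hg : g ∈ normalizer ((S : Subgroup G) : Set G)) : K.Pres g := by
  obtain ⟨m, ⟨k, rfl⟩, hm⟩ := index_pow_mem hg
  have key : ∀ n : ℕ, K.Pres ((g⁻¹ * g⁻¹) ^ n) := by
    intro n
    induction n with
    | zero => rw [pow_zero]; exact K.pres_of_mem (one_mem _)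
    | succ n ih =>
      rw [pow_succ]
      exact ih.mul K (K.pres_sq (conj_mem_of_normalizer (inv_mem hg)))
  have := (K.pres_of_mem hm).mul K (key k)
  rwa [show g ^ (2 * k + 1) * (g⁻¹ * g⁻¹) ^ k = g by
    rw [← pow_two, ← pow_mul, inv_pow, pow_succ']; group] at this

theorem act_sq {g : G} (hg : g ∈ normalizer ((S : Subgroup G) : Set G)) :
    ∃ la mu, K.Act (g * g) la mu := by
  obtain ⟨la, mu, σ, hla, hmu, hσ, hd⟩ := K.exists_act_of_conj (K.pres hg)
  have hfix := eq_zero_of_eq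
  have hσσ : ∀ l x, σ (l * σ x) = σ l * x := by
    intro l x
    rcases hσ with h | h
    · simp [h]
    · rw [h, h, h]
      exact sq_twist l x
  refine ⟨la * σ la, mu * σ mu, mul_ne_zero hla ?_, mul_ne_zero hmu ?_, fun a b c => ?_⟩
  · exact fun h => hla (hfix la (σ la) (hσ.imp (fun h => h la) (fun h => h la)) h)
  · exact fun h => hmu (hfix mu (σ mu) (hσ.imp (fun h => h mu) (fun h => h mu)) h)
  obtain ⟨d, hd1⟩ := hd a b c
  obtain ⟨e, he⟩ := hd (la * σ a) (mu * σ b) d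
  rw [hσσ, hσσ] at he
  refine ⟨e, ?_⟩
  rw [mul_assoc la, mul_assoc mu, ← he, ← hd1]
  group

/-- The action of an element of `N(S)`. -/
theorem exists_act {g : G} (hg : g ∈ normalizer ((S : Subgroup G) : Set G)) :
    ∃ la mu, K.Act g la mu := by
  obtain ⟨m, ⟨k, rfl⟩, hm⟩ := index_pow_mem hg
  have key : ∀ n : ℕ, ∃ la mu, K.Act ((g⁻¹ * g⁻¹) ^ n) la mu := by
    intro n
    induction n with
    | zero => exact ⟨1, 1, by rw [pow_zero]; exact K.act_one⟩
    | succ n ih =>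
      obtain ⟨la, mu, h⟩ := ih
      obtain ⟨la', mu', h'⟩ := K.act_sq (inv_mem hg)
      exact ⟨_, _, by rw [pow_succ]; exact h.mul h'⟩
  obtain ⟨la, mu, h⟩ := key k
  have := (K.act_of_mem hm).mul h
  rw [show g ^ (2 * k + 1) * (g⁻¹ * g⁻¹) ^ k = g by
    rw [← pow_two, ← pow_mul, inv_pow, pow_succ']; group] at this
  exact ⟨_, _, this⟩

variable {K}

theorem Act.inv {g : G} (hg : g ∈ normalizer ((S : Subgroup G) : Set G)) {la mu : F4}
    (h : K.Act g la mu) : K.Act g⁻¹ (la * la) (mu * mu) := by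
  obtain ⟨la', mu', h'⟩ := K.exists_act (inv_mem hg)
  have h1 := h.mul h'
  rw [mul_inv_cancel] at h1
  obtain ⟨e1, e2⟩ := h1.unique K.act_one
  have k1 : la' = la * la := by linear_combination la * la * e1 - la' * pow_three la h.1
  have k2 : mu' = mu * mu := by linear_combination mu * mu * e2 - mu' * pow_three mu h.2.1
  rwa [k1, k2] at h'

theorem Act.pow {g : G} {la mu : F4} (h : K.Act g la mu) : ∀ n : ℕ, K.Act (g ^ n) (la ^ n) (mu ^ n)
  | 0 => by simpa using K.act_one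
  | n + 1 => by simpa [pow_succ] using (Act.pow h n).mul h

variable (K)

/-- An element of odd order acting trivially on `S/Z` centralises `S`. -/
theorem mem_centralizer_of_act {g : G} (ho : Odd (orderOf g)) (h : K.Act g 1 1) :
    g ∈ centralizer ((S : Subgroup G) : Set G) := by
  refine mem_centralizer_iff.2 fun x hx => ?_
  obtain ⟨a, b, c, rfl⟩ := K.exists_u' hx
  obtain ⟨d, hd⟩ := h.2.2 a b c
  rw [one_mul, one_mul] at hd
  have hd' : g * K.u (a, b, c) * g⁻¹ = K.u (a, b, c) * K.u (0, 0, d + c) := by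
    rw [hd, K.mul_def, add_zero, add_zero, mul_zero, add_zero,
      show c + (d + c) = d by linear_combination add_self c]
  have hz : g * K.u (0, 0, d + c) * g⁻¹ = K.u (0, 0, d + c) := by
    rw [h.conj_Z, one_mul, one_mul]
  set e := d + c
  have hee : K.u (0, 0, e) * K.u (0, 0, e) = 1 := by simp [K.sq_iff]
  have key : ∀ n : ℕ, g ^ n * K.u (a, b, c) * (g ^ n)⁻¹ = K.u (a, b, c) * K.u (0, 0, e) ^ n := by
    intro n
    induction n with
    | zero => simp
    | succ n ih =>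
      rw [show g ^ (n + 1) * K.u (a, b, c) * (g ^ (n + 1))⁻¹ =
        g * (g ^ n * K.u (a, b, c) * (g ^ n)⁻¹) * g⁻¹ by rw [pow_succ']; group, ih,
        show g * (K.u (a, b, c) * K.u (0, 0, e) ^ n) * g⁻¹ =
          (g * K.u (a, b, c) * g⁻¹) * (g * K.u (0, 0, e) * g⁻¹) ^ n by rw [conj_pow]; group,
        hd', hz, mul_assoc, ← pow_succ']
  have h1 := key (orderOf g)
  obtain ⟨k, hk⟩ := ho
  rw [pow_orderOf_eq_one, one_mul, inv_one, mul_one, hk, pow_succ, pow_mul, pow_two, hee, one_pow,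
    one_mul] at h1
  rw [← h1] at hd'
  exact (mul_inv_eq_iff_eq_mul.1 hd').symm

/-! ### Fusion -/

omit [Finite G] in
theorem orderOf_eq_two {x : G} (h : x * x = 1) (h1 : x ≠ 1) : orderOf x = 2 :=
  orderOf_eq_prime (by rw [pow_two, h]) h1

/-- `A` is not conjugate to `B`. -/
theorem not_conj_B (g : G) : K.A.map (MulAut.conj g).toMonoidHom ≠ K.B := by
  haveI : Fact (Nat.Prime 2) := ⟨Nat.prime_two⟩
  intro h
  set N := normalizer (K.B : Set G)
  have hSN : (S : Subgroup G) ≤ N := K.S_le_normalizer_B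
  have hgN : ((g • S : Sylow 2 G) : Subgroup G) ≤ N := by
    rintro _ ⟨x, hx, rfl⟩
    show g * x * g⁻¹ ∈ N
    refine mem_normalizer_iff.2 fun y => ?_
    rw [← h, mem_map_equiv (f := MulAut.conj g), mem_map_equiv (f := MulAut.conj g)]
    simp only [MulAut.conj_symm_apply]
    rw [mem_normalizer_iff.1 (K.S_le_normalizer_A hx) (g⁻¹ * y * g)]
    rw [show x * (g⁻¹ * y * g) * x⁻¹ = g⁻¹ * (g * x * g⁻¹ * y * (g * x * g⁻¹)⁻¹) * g by group]
  obtain ⟨n₀, hn₀, h1⟩ := exists_mul_mem_normalizer_sylow N hSN g fun x hx => hgN ⟨x, hx, rfl⟩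
  set n : N := ⟨n₀, hn₀⟩
  have h2 := (K.pres h1).1
  have h3 : ∀ x ∈ K.A, (n : G) * g * x * ((n : G) * g)⁻¹ ∈ K.B := fun x hx => by
    have : g * x * g⁻¹ ∈ K.B := h ▸ ⟨x, hx, rfl⟩
    rw [show (n : G) * g * x * ((n : G) * g)⁻¹ = n * (g * x * g⁻¹) * (n : G)⁻¹ by group]
    exact (mem_normalizer_iff.1 n.2 _).1 this
  refine K.A_ne_B (Subgroup.map_injective (f := (MulAut.conj ((n : G) * g)).toMonoidHom)
    (MulAut.conj ((n : G) * g)).injective ?_)
  trans K.B
  · refine eq_of_le_of_card_ge ?_ (by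
      rw [card_map_of_injective (MulAut.conj _).injective, K.card_A, K.card_B])
    rintro _ ⟨x, hx, rfl⟩
    exact h3 x hx
  · refine (eq_of_le_of_card_ge ?_ (by
      rw [card_map_of_injective (MulAut.conj _).injective])).symm
    rintro _ ⟨x, hx, rfl⟩
    exact (K.pres h1).2 x hx

theorem weaklyClosed : Cfsg.IsWeaklyClosed K.A (S : Subgroup G) := by
  refine ⟨K.A_le, fun g hg => ?_⟩
  refine (K.classify _ hg ?_ ?_).resolve_right (K.not_conj_B g)
  · rintro _ ⟨x, hx, rfl⟩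
    rw [← map_mul, K.A_sq hx, map_one]
  · rw [card_map_of_injective (MulAut.conj g).injective, K.card_A]

/-- Fusion in `A` is controlled by `N(A)`. -/
theorem fusion_A {x g : G} (hx : x ∈ K.A) (hy : g * x * g⁻¹ ∈ K.A) :
    ∃ n ∈ normalizer (K.A : Set G), n * x * n⁻¹ = g * x * g⁻¹ := by
  haveI : Fact (Nat.Prime 2) := ⟨Nat.prime_two⟩
  obtain ⟨c, hc, hn⟩ := Transfer.exists_mul_mem_normalizer S K.weaklyClosed
    (centralizer ({g * x * g⁻¹} : Set G))
    (fun w hw => mem_centralizer_singleton_iff.2 (K.A_comm hw hy)) g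
    (fun w hw => mem_centralizer_singleton_iff.2 (by
      rw [show g * w * g⁻¹ * (g * x * g⁻¹) = g * (w * x) * g⁻¹ by group, K.A_comm hw hx]; group))
  refine ⟨c * g, hn, ?_⟩
  rw [mem_centralizer_singleton_iff] at hc
  calc c * g * x * (c * g)⁻¹ = c * (g * x * g⁻¹) * c⁻¹ := by group
    _ = g * x * g⁻¹ := by rw [hc]; group

/-- Fusion in `Z` is controlled by `N(S)`. -/
theorem fusion_Z {x g : G} (hx : x ∈ K.Z) (hy : g * x * g⁻¹ ∈ K.Z) :
    ∃ n ∈ normalizer ((S : Subgroup G) : Set G), n * x * n⁻¹ = g * x * g⁻¹ := by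
  haveI : Fact (Nat.Prime 2) := ⟨Nat.prime_two⟩
  obtain ⟨c, hc, hn⟩ := Transfer.exists_mul_mem_normalizer S (Transfer.isWeaklyClosed_self _)
    (centralizer ({g * x * g⁻¹} : Set G))
    (fun w hw => mem_centralizer_singleton_iff.2 (K.Z_central hy hw)) g
    (fun w hw => mem_centralizer_singleton_iff.2 (by
      rw [show g * w * g⁻¹ * (g * x * g⁻¹) = g * (w * x) * g⁻¹ by group, K.Z_central hx hw]; group))
  refine ⟨c * g, hn, ?_⟩
  rw [mem_centralizer_singleton_iff] at hc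
  calc c * g * x * (c * g)⁻¹ = c * (g * x * g⁻¹) * c⁻¹ := by group
    _ = g * x * g⁻¹ := by rw [hc]; group

/-- An involution of `A` outside the centre is conjugate to a central one. -/
def Ess : Prop :=
  ∃ a ∈ K.A, a ∉ K.Z ∧ ∃ g : G, g * a * g⁻¹ ∈ K.Z

omit [Finite G] in
/-- The centraliser in `S` of an element of `A` outside the centre is `A`. -/
theorem cent_A {a x : G} (ha : a ∈ K.A) (haZ : a ∉ K.Z) (hx : x ∈ (S : Subgroup G))
    (h : x * a = a * x) : x ∈ K.A := by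
  obtain ⟨b, c, rfl⟩ := ha
  obtain ⟨a', b', c', rfl⟩ := K.exists_u' hx
  have hb : b ≠ 0 := fun hb => haZ (K.mem_Z.2 ⟨rfl, hb⟩)
  have := (K.commute_iff _ _ _ _ _ _).1 h
  rw [mul_zero] at this
  exact K.mem_A.2 ((mul_eq_zero.1 this.symm).resolve_left hb)

omit [Finite G] in
theorem cent_B {a x : G} (ha : a ∈ K.B) (haZ : a ∉ K.Z) (hx : x ∈ (S : Subgroup G))
    (h : x * a = a * x) : x ∈ K.B := by
  rw [← K.swap_A] at ha ⊢
  exact K.swap.cent_A ha (by rwa [K.swap_Z]) hx h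

/-- `A` is a Sylow subgroup of `C(a)` for `a` not conjugate to a central involution. -/
theorem sylow_cent {a : G} (ha : a ∈ K.A) (hnc : ∀ g : G, g * a * g⁻¹ ∉ K.Z) (P : Subgroup G)
    (hP : IsPGroup 2 P) (hAP : K.A ≤ P) (hPa : P ≤ centralizer ({a} : Set G)) : P = K.A := by
  haveI : Fact (Nat.Prime 2) := ⟨Nat.prime_two⟩
  obtain ⟨T, hT⟩ := hP.exists_le_sylow
  obtain ⟨g, rfl⟩ := MulAction.exists_smul_eq G S T
  refine (eq_of_le_of_card_ge hAP ?_).symm
  have hmem : ∀ p ∈ P, g⁻¹ * p * g ∈ (S : Subgroup G) := fun p hp => by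
    obtain ⟨y, hy, hyp⟩ := hT hp
    rw [← show g * y * g⁻¹ = p from hyp]
    simpa [mul_assoc] using (show y ∈ (S : Subgroup G) from hy)
  set a' := g⁻¹ * a * g with ha'
  have hnZ : a' ∉ K.Z := fun h => hnc g⁻¹ (by rwa [inv_inv])
  have hc : ∀ p ∈ P, g⁻¹ * p * g * a' = a' * (g⁻¹ * p * g) := fun p hp => by
    have := mem_centralizer_singleton_iff.1 (hPa hp)
    calc g⁻¹ * p * g * (g⁻¹ * a * g) = g⁻¹ * (p * a) * g := by group
      _ = g⁻¹ * (a * p) * g := by rw [this]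
      _ = g⁻¹ * a * g * (g⁻¹ * p * g) := by group
  have ha'sq : a' * a' = 1 := by
    calc g⁻¹ * a * g * (g⁻¹ * a * g) = g⁻¹ * (a * a) * g := by group
      _ = 1 := by rw [K.A_sq ha]; group
  have hle : P.map (MulAut.conj g⁻¹).toMonoidHom ≤ K.A ∨
      P.map (MulAut.conj g⁻¹).toMonoidHom ≤ K.B := by
    rcases K.involution_cases (hmem a (hAP ha)) ha'sq with h | h
    · left; rintro _ ⟨p, hp, rfl⟩
      simpa using K.cent_A h hnZ (hmem p hp) (hc p hp)
    · right; rintro _ ⟨p, hp, rfl⟩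
      simpa using K.cent_B h hnZ (hmem p hp) (hc p hp)
  rcases hle with h | h <;> have h' := Subgroup.card_le_of_le h <;>
    rw [card_map_of_injective (MulAut.conj g⁻¹).injective] at h'
  exacts [h'.trans_eq K.card_A |>.trans_eq K.card_A.symm, h'.trans_eq K.card_B |>.trans_eq K.card_A.symm]

/-- Involutions of `A` and `B` outside the centre are conjugate only if both are conjugate to central ones. -/
theorem not_conj_AB {a b g : G} (ha : a ∈ K.A) (hb : b ∈ K.B)
    (hna : ∀ g : G, g * a * g⁻¹ ∉ K.Z) : g * a * g⁻¹ ≠ b := by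
  haveI : Fact (Nat.Prime 2) := ⟨Nat.prime_two⟩
  intro h
  set C := centralizer ({b} : Set G)
  have hnb : ∀ k : G, k * b * k⁻¹ ∉ K.Z := fun k hk => hna (k * g) (by
    rwa [show k * g * a * (k * g)⁻¹ = k * (g * a * g⁻¹) * k⁻¹ by group, h])
  have hgA : K.A.map (MulAut.conj g).toMonoidHom ≤ C := by
    rintro _ ⟨x, hx, rfl⟩
    refine mem_centralizer_singleton_iff.2 ?_
    show g * x * g⁻¹ * b = b * (g * x * g⁻¹)
    rw [← h, show g * x * g⁻¹ * (g * a * g⁻¹) = g * (x * a) * g⁻¹ by group, K.A_comm hx ha]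
    group
  have hBC : K.B ≤ C := fun x hx => mem_centralizer_singleton_iff.2 (K.B_comm hx hb)
  have hA2 : IsPGroup 2 K.A := IsPGroup.of_card (n := 4) (by rw [K.card_A]; norm_num)
  have hB2 : IsPGroup 2 K.B := IsPGroup.of_card (n := 4) (by rw [K.card_B]; norm_num)
  obtain ⟨P, hP⟩ := (hB2.comap_subtype (K := C)).exists_le_sylow
  obtain ⟨Q, hQ⟩ := ((hA2.map (MulAut.conj g).toMonoidHom).comap_subtype (K := C)).exists_le_sylow
  have hPB : (P : Subgroup C).map C.subtype = K.B := by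
    refine (K.swap_A ▸ K.swap.sylow_cent (a := b) (K.swap_A.symm ▸ hb) (by rwa [K.swap_Z]) _
      (P.2.map _) ?_ (map_subtype_le _))
    rw [K.swap_A]
    exact fun x hx => ⟨⟨x, hBC hx⟩, hP hx, rfl⟩
  obtain ⟨c, hc⟩ := MulAction.exists_smul_eq C Q P
  refine K.not_conj_B ((c : G) * g) (eq_of_le_of_card_ge ?_ ?_)
  · rintro _ ⟨x, hx, rfl⟩
    rw [← hPB, ← hc]
    have hx' : (⟨g * x * g⁻¹, hgA ⟨x, hx, rfl⟩⟩ : C) ∈ (Q : Subgroup C) := hQ ⟨x, hx, rfl⟩
    refine ⟨_, ⟨_, hx', rfl⟩, ?_⟩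
    show (c : G) * (g * x * g⁻¹) * (c : G)⁻¹ = (c : G) * g * x * ((c : G) * g)⁻¹
    group
  · rw [card_map_of_injective (MulAut.conj _).injective, K.card_A, K.card_B]

/-- Elements of `A` are not fused out of the centre unless `A` is essential. -/
theorem mem_Z_of_conj (hE : ¬ K.Ess) {z g : G} (hz : z ∈ K.Z) (hy : g * z * g⁻¹ ∈ K.A) :
    g * z * g⁻¹ ∈ K.Z := by
  by_contra h
  exact hE ⟨_, hy, h, g⁻¹, by rwa [show g⁻¹ * (g * z * g⁻¹) * g⁻¹⁻¹ = z by group]⟩

/-- Outside the essential case `N(A) = C(A) N(S)`. -/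
theorem exists_decomp_A (hE : ¬ K.Ess) {g : G} (hg : g ∈ normalizer (K.A : Set G)) :
    ∃ c ∈ centralizer (K.A : Set G), ∃ n ∈ normalizer ((S : Subgroup G) : Set G), g = c * n := by
  haveI : Fact (Nat.Prime 2) := ⟨Nat.prime_two⟩
  set N := normalizer (K.A : Set G)
  have hNA : ∀ n ∈ N, ∀ a ∈ K.A, n * a * n⁻¹ ∈ K.A := fun n hn a ha =>
    (mem_normalizer_iff.1 hn a).1 ha
  have hNZ : ∀ n ∈ N, ∀ z ∈ K.Z, n * z * n⁻¹ ∈ K.Z := fun n hn z hz =>
    K.mem_Z_of_conj hE hz (hNA n hn z (K.Z_le_A hz))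
  let D : Subgroup G :=
    { carrier := {n | n ∈ N ∧ (∀ z ∈ K.Z, n * z * n⁻¹ = z) ∧ ∀ a ∈ K.A, n * a * n⁻¹ * a⁻¹ ∈ K.Z}
      one_mem' := ⟨one_mem _, fun z _ => by simp, fun a _ => by simp [one_mem]⟩
      mul_mem' := fun {n m} hn hm => ⟨mul_mem hn.1 hm.1, fun z hz => by
          rw [show n * m * z * (n * m)⁻¹ = n * (m * z * m⁻¹) * n⁻¹ by group, hm.2.1 z hz, hn.2.1 z hz],
        fun a ha => by
          rw [show n * m * a * (n * m)⁻¹ * a⁻¹ = (n * (m * a * m⁻¹ * a⁻¹) * n⁻¹) * (n * a * n⁻¹ * a⁻¹) by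
            group, hn.2.1 _ (hm.2.2 a ha)]
          exact mul_mem (hm.2.2 a ha) (hn.2.2 a ha)⟩
      inv_mem' := fun {n} hn => ⟨inv_mem hn.1, fun z hz => by
          conv_lhs => rw [← hn.2.1 z hz]
          group,
        fun a ha => by
          have h1 := hn.2.2 _ (hNA _ (inv_mem hn.1) a ha)
          rw [show n * (n⁻¹ * a * n⁻¹⁻¹) * n⁻¹ * (n⁻¹ * a * n⁻¹⁻¹)⁻¹ =
            (n⁻¹ * a * n⁻¹⁻¹ * a⁻¹)⁻¹ by group] at h1
          · exact inv_mem_iff.1 h1⟩ }
  have hSD : (S : Subgroup G) ≤ D := by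
    intro x hx
    refine ⟨K.S_le_normalizer_A hx, fun z hz => ?_, ?_⟩
    · rw [K.Z_central hz hx]; group
    · intro a ha
      obtain ⟨a', b', c', rfl⟩ := K.exists_u' hx
      obtain ⟨b, c, rfl⟩ := ha
      rw [K.conj_u, K.u_inv, K.mul_def]
      exact K.mem_Z.2 ⟨add_self _, add_self _⟩
  have hCD : centralizer (K.A : Set G) ≤ D := by
    intro c hc
    have hfix : ∀ a ∈ K.A, c * a * c⁻¹ = a := fun a ha => by
      rw [← mem_centralizer_iff.1 hc a ha]; group
    exact ⟨centralizer_le_normalizer _ hc, fun z hz => hfix z (K.Z_le_A hz), fun a ha => by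
      rw [hfix a ha, mul_inv_cancel]; exact one_mem _⟩
  have hsqD : ∀ n ∈ D, n * n ∈ centralizer (K.A : Set G) := by
    intro n hn
    refine mem_centralizer_iff.2 fun a ha => ?_
    set z := n * a * n⁻¹ * a⁻¹
    have hz : z ∈ K.Z := hn.2.2 a ha
    have h1 : n * a * n⁻¹ = z * a := by simp [z]
    have h2 : n * n * a * (n * n)⁻¹ = a := by
      calc n * n * a * (n * n)⁻¹ = n * (n * a * n⁻¹) * n⁻¹ := by group
        _ = n * (z * a) * n⁻¹ := by rw [h1]
        _ = (n * z * n⁻¹) * (n * a * n⁻¹) := by group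
        _ = z * z * a := by rw [hn.2.1 z hz, h1]; group
        _ = a := by rw [K.A_sq (K.Z_le_A hz), one_mul]
    conv_lhs => rw [← h2]
    group
  have hgen : ∀ n ∈ D, ∃ c ∈ centralizer (K.A : Set G), ∃ s ∈ (S : Subgroup G), n = c * s := by
    have hCN : normalizer ((centralizer (K.A : Set G) : Subgroup G) : Set G) ≥ D := by
      intro n hn
      have key : ∀ m ∈ D, ∀ c ∈ centralizer (K.A : Set G), m * c * m⁻¹ ∈ centralizer (K.A : Set G) := by
        intro m hm c hc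
        refine mem_centralizer_iff.2 fun a ha => ?_
        have h' := mem_centralizer_iff.1 hc _ (hNA _ (inv_mem hm.1) a ha)
        calc a * (m * c * m⁻¹) = m * ((m⁻¹ * a * m⁻¹⁻¹) * c) * m⁻¹ := by group
          _ = m * (c * (m⁻¹ * a * m⁻¹⁻¹)) * m⁻¹ := by rw [h']
          _ = m * c * m⁻¹ * a := by group
      exact mem_normalizer_iff.2 fun c => ⟨key n hn c, fun h => by
        simpa [mul_assoc] using key n⁻¹ (inv_mem hn) _ h⟩
    have hsup : centralizer (K.A : Set G) ⊔ (S : Subgroup G) = D := by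
      refine le_antisymm (sup_le hCD hSD) ?_
      intro n hn
      obtain ⟨k, hk, hkD⟩ : ∃ k, Odd k ∧ n ^ k ∈ centralizer (K.A : Set G) ⊔ (S : Subgroup G) := by
        haveI : ((centralizer (K.A : Set G) ⊔ (S : Subgroup G)).subgroupOf D).Normal := by
          refine ⟨fun x hx y => ?_⟩
          have h2 : ∀ z : D, (z * z : D) ∈ (centralizer (K.A : Set G) ⊔ (S : Subgroup G)).subgroupOf D :=
            fun z => mem_sup_left (hsqD z z.2)
          rw [show y * x * y⁻¹ = (y * x) * (y * x) * (x⁻¹ * ((y⁻¹) * (y⁻¹))) by group]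
          exact mul_mem (h2 _) (mul_mem (inv_mem hx) (h2 _))
        refine ⟨((centralizer (K.A : Set G) ⊔ (S : Subgroup G)).subgroupOf D).index, ?_, ?_⟩
        · refine Nat.not_even_iff_odd.1 fun he => S.not_dvd_index ?_
          exact (even_iff_two_dvd.1 he).trans
            ((index_dvd_of_le (comap_mono (f := D.subtype) le_sup_right)).trans
              (relIndex_dvd_index_of_le hSD))
        · exact ((centralizer (K.A : Set G) ⊔ (S : Subgroup G)).subgroupOf D).pow_index_mem ⟨n, hn⟩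
      obtain ⟨j, rfl⟩ := hk
      rw [pow_succ', pow_mul, pow_two] at hkD
      have := mul_mem hkD (inv_mem (mem_sup_left (pow_mem (hsqD n hn) j) :
        (n * n) ^ j ∈ centralizer (K.A : Set G) ⊔ (S : Subgroup G)))
      simpa using this
    intro n hn
    rw [← hsup, ← SetLike.mem_coe,
      coe_mul_of_right_le_normalizer_left _ _ (hSD.trans hCN)] at hn
    obtain ⟨c, hc, s, hs, rfl⟩ := hn
    exact ⟨c, hc, s, hs, rfl⟩
  have hnormD : ∀ n ∈ N, ∀ d ∈ D, n * d * n⁻¹ ∈ D := by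
    intro n hn d hd
    refine ⟨mul_mem (mul_mem hn hd.1) (inv_mem hn), fun z hz => ?_, fun a ha => ?_⟩
    · have := hd.2.1 _ (hNZ _ (inv_mem hn) z hz)
      calc n * d * n⁻¹ * z * (n * d * n⁻¹)⁻¹ = n * (d * (n⁻¹ * z * n⁻¹⁻¹) * d⁻¹) * n⁻¹ := by group
        _ = z := by rw [this]; group
    · have := hNZ n hn _ (hd.2.2 _ (hNA _ (inv_mem hn) a ha))
      rwa [show n * d * n⁻¹ * a * (n * d * n⁻¹)⁻¹ * a⁻¹ =
        n * (d * (n⁻¹ * a * n⁻¹⁻¹) * d⁻¹ * (n⁻¹ * a * n⁻¹⁻¹)⁻¹) * n⁻¹ by group]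
  obtain ⟨d, hd, hdg⟩ := exists_mul_mem_normalizer_sylow D hSD g fun x hx => hnormD g hg x (hSD hx)
  obtain ⟨c, hc, s, hs, he⟩ := hgen _ (inv_mem hd)
  refine ⟨c, hc, s * (d * g), mul_mem (le_normalizer hs) hdg, ?_⟩
  calc g = d⁻¹ * (d * g) := by group
    _ = c * (s * (d * g)) := by rw [he, mul_assoc]

/-- Conjugate elements of `A` are conjugate under `N(S)` outside the essential case. -/
theorem fusion_A_normalizer (hE : ¬ K.Ess) {x g : G} (hx : x ∈ K.A) (hy : g * x * g⁻¹ ∈ K.A) :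
    ∃ n ∈ normalizer ((S : Subgroup G) : Set G), n * x * n⁻¹ = g * x * g⁻¹ := by
  obtain ⟨m, hm, he⟩ := K.fusion_A hx hy
  obtain ⟨c, hc, n, hn, rfl⟩ := K.exists_decomp_A hE hm
  refine ⟨n, hn, ?_⟩
  have h1 : n * x * n⁻¹ ∈ K.A := (K.pres hn).1 x hx
  rw [← he, show c * n * x * (c * n)⁻¹ = c * (n * x * n⁻¹) * c⁻¹ by group,
    ← mem_centralizer_iff.1 hc _ h1]
  group

/-! ### The possible actions -/

/-- The scalar pairs that occur. -/
def Occ (la mu : F4) : Prop :=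
  ∃ g ∈ normalizer ((S : Subgroup G) : Set G), K.Act g la mu

variable {K}

theorem Occ.mul {la mu la' mu' : F4} (h : K.Occ la mu) (h' : K.Occ la' mu') :
    K.Occ (la * la') (mu * mu') :=
  ⟨_, mul_mem h.choose_spec.1 h'.choose_spec.1, h.choose_spec.2.mul h'.choose_spec.2⟩

theorem Occ.ne_zero {la mu : F4} (h : K.Occ la mu) : la ≠ 0 ∧ mu ≠ 0 :=
  ⟨h.choose_spec.2.1, h.choose_spec.2.2.1⟩

theorem Occ.swap {la mu : F4} (h : K.Occ la mu) : K.swap.Occ mu la :=
  ⟨_, h.choose_spec.1, h.choose_spec.2.swap⟩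

theorem Occ.sq {la mu : F4} (h : K.Occ la mu) : K.Occ (la * la) (mu * mu) := h.mul h

variable (K)

theorem occ_one : K.Occ 1 1 := ⟨1, one_mem _, K.act_one⟩

theorem swap_occ {la mu : F4} (h : K.swap.Occ la mu) : K.Occ mu la := by
  obtain ⟨g, hg, ha⟩ := h
  obtain ⟨x, y, hxy⟩ := K.exists_act hg
  obtain ⟨e1, e2⟩ := hxy.swap.unique ha
  exact ⟨g, hg, e1 ▸ e2 ▸ hxy⟩

/-- The group of occurring scalar pairs is one of: inside the antidiagonal, an axis, the diagonal, all. -/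
theorem occ_cases :
    (∀ la mu, K.Occ la mu → la * mu = 1) ∨
    ((∀ la mu, K.Occ la mu → la = 1) ∧ K.Occ 1 om) ∨
    ((∀ la mu, K.Occ la mu → mu = 1) ∧ K.Occ om 1) ∨
    ((∀ la mu, K.Occ la mu → la = mu) ∧ K.Occ om om) ∨
    ∀ la mu, la ≠ 0 → mu ≠ 0 → K.Occ la mu := by
  have hgen : ∀ la mu, K.Occ la mu → la ≠ 1 → mu = 1 → K.Occ om 1 := by
    intro la mu h hl hm
    have hl0 := h.ne_zero.1
    rcases f4_cases la with rfl | rfl | rfl | rfl
    · exact absurd rfl hl0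
    · exact absurd rfl hl
    · exact hm ▸ h
    · have := h.sq; rwa [hm, mul_one, show ((1 : F4) + om) * (1 + om) = om by decide] at this
  have hgen' : ∀ la mu, K.Occ la mu → mu ≠ 1 → la = 1 → K.Occ 1 om := by
    intro la mu h hm hl
    have hm0 := h.ne_zero.2
    rcases f4_cases mu with rfl | rfl | rfl | rfl
    · exact absurd rfl hm0
    · exact absurd rfl hm
    · exact hl ▸ h
    · have := h.sq; rwa [hl, mul_one, show ((1 : F4) + om) * (1 + om) = om by decide] at this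
  have hdiag : ∀ la mu, K.Occ la mu → la ≠ 1 → la = mu → K.Occ om om := by
    intro la mu h hl hm
    subst hm
    have hl0 := h.ne_zero.1
    rcases f4_cases la with rfl | rfl | rfl | rfl
    · exact absurd rfl hl0
    · exact absurd rfl hl
    · exact h
    · have := h.sq; rwa [show ((1 : F4) + om) * (1 + om) = om by decide] at this
  have hall : K.Occ om 1 → K.Occ 1 om → ∀ la mu, la ≠ 0 → mu ≠ 0 → K.Occ la mu := by
    intro h1 h2 la mu hl hm
    have p1 : ∀ x : F4, x ≠ 0 → K.Occ x 1 := by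
      intro x hx
      rcases f4_cases x with rfl | rfl | rfl | rfl
      · exact absurd rfl hx
      · exact K.occ_one
      · exact h1
      · have := h1.sq; rwa [mul_one, show om * om = 1 + om by decide] at this
    have p2 : ∀ x : F4, x ≠ 0 → K.Occ 1 x := by
      intro x hx
      rcases f4_cases x with rfl | rfl | rfl | rfl
      · exact absurd rfl hx
      · exact K.occ_one
      · exact h2
      · have := h2.sq; rwa [mul_one, show om * om = 1 + om by decide] at this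
    simpa using (p1 la hl).mul (p2 mu hm)
  by_cases hd : ∀ la mu, K.Occ la mu → la * mu = 1
  · exact Or.inl hd
  right
  by_cases hA : K.Occ 1 om
  · by_cases hB : K.Occ om 1
    · exact Or.inr (Or.inr (Or.inr (hall hB hA)))
    · refine Or.inl ⟨fun la mu h => ?_, hA⟩
      by_contra hl
      refine hB ?_
      rcases f4_cases mu with rfl | rfl | rfl | rfl
      · exact absurd rfl h.ne_zero.2
      · exact hgen _ _ h hl rfl
      · exact hgen _ _ ((h.mul hA).mul hA) (by simpa using hl) (by decide)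
      · exact hgen _ _ (h.mul hA) (by simpa using hl) (by decide)
  · by_cases hB : K.Occ om 1
    · refine Or.inr (Or.inl ⟨fun la mu h => ?_, hB⟩)
      by_contra hm
      refine hA ?_
      rcases f4_cases la with rfl | rfl | rfl | rfl
      · exact absurd rfl h.ne_zero.1
      · exact hgen' _ _ h hm rfl
      · exact hgen' _ _ ((h.mul hB).mul hB) (by simpa using hm) (by decide)
      · exact hgen' _ _ (h.mul hB) (by simpa using hm) (by decide)
    · push Not at hd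
      obtain ⟨la₀, mu₀, h₀, hne⟩ := hd
      have hl₀ : la₀ ≠ 1 := fun e => hA (hgen' _ _ h₀ (fun e' => hne (by rw [e, e', mul_one])) e)
      have hm₀ : mu₀ ≠ 1 := fun e => hB (hgen _ _ h₀ hl₀ e)
      have he₀ : la₀ = mu₀ := diag_of_prod _ _ h₀.ne_zero.1 h₀.ne_zero.2 hne hl₀ hm₀
      refine Or.inr (Or.inr (Or.inl ⟨fun la mu h => ?_, hdiag _ _ h₀ hl₀ he₀⟩))
      subst he₀
      by_contra hne'
      have hl := h.ne_zero
      by_cases hl1 : la = 1
      · exact hA (hgen' _ _ h (fun e => hne' (hl1.trans e.symm)) hl1)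
      by_cases hm1 : mu = 1
      · exact hB (hgen _ _ h hl1 hm1)
      have h' := h.mul h₀
      have h'' := h'.mul h₀
      have := axis_of_shift _ _ _ hl.1 hl.2 h₀.ne_zero.1 hl₀ hne' hl1 hm1
      rcases this with ⟨e1, e2⟩ | ⟨e1, e2⟩
      · exact hA (hgen' _ _ h' e2 e1)
      · exact hA (hgen' _ _ h'' e2 e1)

end Cfg

end Cfsg.Agent.Recog34
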